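import Groth.Agent.GrassLib.Charts
import Groth.Agent.GrassLib.PBundle.Proper
import Mathlib

/-!
# The absolute Grassmannian is smooth, surjective and has irreducible fibres
-/

set_option autoImplicit false
set_option linter.style.haveILetI false
set_option linter.unusedSectionVars false
set_option backward.isDefEq.respectTransparency.types false

universe u

open CategoryTheory CategoryTheory.Limits AlgebraicGeometry Opposite TopologicalSpace
open Groth.Agent.Coherent Groth.Agent.PicLib Groth.Agent.GrassLib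

namespace Groth.Agent.Flag22

variable {n q : ℕ}

/-- the structure morphism of a chart -/
noncomputable def chartTo (I : Idx.{u} n q) : chart I ⟶ Spec (CommRingCat.of (ULift.{u} ℤ)) :=
  Spec.map (CommRingCat.ofHom (MvPolynomial.C : ULift.{u} ℤ →+* MvPolynomial (Coord I) (ULift.{u} ℤ)))

theorem chart_from (I : Idx.{u} n q) :
    inc I ≫ specULiftZIsTerminal.from (Gr.{u} n q) = chartTo I :=
  specULiftZIsTerminal.hom_ext _ _

theorem smooth_chartTo (I : Idx.{u} n q) : SmoothOfRelativeDimension (q * (n - q)) (chartTo I) := by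
  rw [chartTo, HasRingHomProperty.Spec_iff (P := @SmoothOfRelativeDimension (q * (n - q)))]
  refine RingHom.locally_of (RingHom.isStandardSmoothOfRelativeDimension_respectsIso (n := q * (n - q))) _ ?_
  exact (RingHom.isStandardSmoothOfRelativeDimension_algebraMap (q * (n - q))).2
    (haveI := FlatMorLocalStr.isStandardSmoothOfRelativeDimension_mvPolynomial (ULift.{u} ℤ) (q * (n - q))
     .of_algEquiv (q * (n - q)) (MvPolynomial.renameEquiv (ULift.{u} ℤ) (Fintype.equivFinOfCardEq (card_coord I)).symm))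

theorem surjective_chartTo (I : Idx.{u} n q) : Surjective (chartTo I) := by
  let s : Spec (CommRingCat.of (ULift.{u} ℤ)) ⟶ chart I :=
    Spec.map (CommRingCat.ofHom (MvPolynomial.eval₂Hom (RingHom.id _) (fun _ => 0)))
  have h : s ≫ chartTo I = 𝟙 _ := by
    rw [chartTo, ← Spec.map_comp, ← CommRingCat.ofHom_comp,
      show (MvPolynomial.eval₂Hom (RingHom.id (ULift.{u} ℤ)) (fun _ : Coord I => 0)).comp MvPolynomial.C = RingHom.id _
        from RingHom.ext fun r => MvPolynomial.eval₂Hom_C _ _ r]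
    exact Spec.map_id _
  exact ⟨fun x => ⟨s x, congr($h x)⟩⟩

theorem smooth_Gr (n q : ℕ) :
    SmoothOfRelativeDimension (q * (n - q)) (specULiftZIsTerminal.from (Gr.{u} n q)) := by
  rw [IsZariskiLocalAtSource.iff_of_openCover (P := @SmoothOfRelativeDimension (q * (n - q))) (GrassLib.cover n q)]
  intro I
  have h := smooth_chartTo (n := n) (q := q) I
  rw [← chart_from I] at h
  exact h

theorem surjective_Gr (h : q ≤ n) : Surjective (specULiftZIsTerminal.from (Gr.{u} n q)) := by
  haveI := surjective_chartTo (⟨⟨Fin.castLE h, Fin.castLE_injective h⟩⟩ : Idx.{u} n q)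
  exact ⟨fun x => by
    obtain ⟨y, hy⟩ := Scheme.Hom.surjective (chartTo (⟨⟨Fin.castLE h, Fin.castLE_injective h⟩⟩ : Idx.{u} n q)) x
    refine ⟨inc _ y, ?_⟩
    rw [← hy, ← chart_from]
    rfl⟩

/-- frames differing by a permutation -/
theorem isFrame_of_perm {T : Scheme.{u}} {L : T.Modules} {t : Fin n → Γ(L, ⊤)} {U : T.Opens}
    {I J : Fin q → Fin n} (h : IsFrame L t U I) (σ : Fin q ≃ Fin q) (hσ : ∀ k, t (J k) = t (I (σ k))) :
    IsFrame L t U J := by
  refine IsFrame.of_bij fun V hV => ?_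
  convert (h.bij hV).comp (Equiv.arrowCongr σ (Equiv.refl Γ(T, V))).bijective using 1
  funext c
  refine Fintype.sum_equiv σ _ _ fun k => ?_
  simp [hσ]

/-- two charts have a common rational point -/
theorem exists_common_point (K : Type u) [Field K] (I J : Idx.{u} n q) :
    ∃ g : Spec (CommRingCat.of K) ⟶ Gr.{u} n q, Set.range g ⊆ Set.range (inc I) ∧ Set.range g ⊆ Set.range (inc J) := by
  classical
  let i := I.down.1
  let j := J.down.1
  let e : {k // j k ∈ Set.range i} ≃ {l // i l ∈ Set.range j} :=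
    Equiv.ofBijective (fun k => ⟨k.2.choose, ⟨k.1, k.2.choose_spec.symm⟩⟩) ⟨fun a b hab => by
      have h1 := a.2.choose_spec
      have h2 := b.2.choose_spec
      have h3 : a.2.choose = b.2.choose := congrArg Subtype.val hab
      rw [h3] at h1
      exact Subtype.ext (J.down.2 (h1.symm.trans h2)), fun l => by
      obtain ⟨k, hk⟩ := l.2
      exact ⟨⟨k, ⟨l.1, hk.symm⟩⟩, Subtype.ext (I.down.2 ((Exists.choose_spec (⟨l.1, hk.symm⟩ : j k ∈ Set.range i)).trans hk))⟩⟩
  let σ : Fin q ≃ Fin q := e.extendSubtype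
  let T := Spec (CommRingCat.of K)
  let a : Coord I → Γ(T, ⊤) := fun v => if ∃ k, j k = v.1.1 ∧ σ k = v.2 then 1 else 0
  have hσ : ∀ k, (ofMat a).t (j k) = (ofMat a).t (i (σ k)) := fun k => by
    by_cases hk : j k ∈ Set.range i
    · rw [show i (σ k) = j k from by
        rw [show σ k = (e ⟨k, hk⟩ : Fin q) from Equiv.extendSubtype_apply_of_mem e k hk]
        exact Exists.choose_spec hk]
    · show ∑ l, cmat a (j k) l • _ = ∑ l, cmat a (i (σ k)) l • _
      refine Finset.sum_congr rfl fun l _ => congrArg (· • _) ?_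
      rw [cmat, dif_neg hk, cmat, dif_pos ⟨σ k, rfl⟩]
      show (if _ then (1 : Γ(T, ⊤)) else 0) = _
      refine if_congr ⟨?_, ?_⟩ rfl rfl
      · rintro ⟨k', hk', rfl⟩
        rw [J.down.2 hk']
      · intro hl
        exact ⟨k, rfl, (I.down.2 hl).symm⟩
  have hJ : IsFrame (ofMat a).L (ofMat a).t ⊤ j := isFrame_of_perm (ofMat_frame a) σ hσ
  obtain ⟨z, hz⟩ := exists_chart_of_frame (I := I) (ofMat a) (ofMat_frame a)
  obtain ⟨z', hz'⟩ := exists_chart_of_frame (I := J) (ofMat a) hJ
  refine ⟨z ≫ inc I, ?_, ?_⟩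
  · rintro _ ⟨x, rfl⟩
    exact ⟨z x, rfl⟩
  · rw [show z ≫ inc I = z' ≫ inc J from representableBy.homEquiv.injective
      (((homEquiv_inc z).trans hz).trans ((homEquiv_inc z').trans hz').symm)]
    rintro _ ⟨x, rfl⟩
    exact ⟨z' x, rfl⟩

variable (n q) in
/-- the opens of the charts over a ring -/
noncomputable def grU (R : Type u) [CommRing R] (I : {I : Fin q → Fin n // Function.Injective I}) :
    (GrOver n q R).left.Opens :=
  (show (GrOver n q R).left ⟶ Gr.{u} n q from pullback.fst _ _) ⁻¹ᵁ (inc (⟨I⟩ : Idx.{u} n q)).opensRange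

theorem nonempty_grU_iso (R : Type u) [CommRing R] (I : {I : Fin q → Fin n // Function.Injective I}) :
    Nonempty (Over.mk ((grU n q R I).ι ≫ (GrOver n q R).hom) ≅
      Over.mk (𝔸(ULift.{u} (Fin (q * (n - q))); Spec (CommRingCat.of R)) ↘ Spec (CommRingCat.of R))) := by
  let p : (GrOver n q R).left ⟶ Gr.{u} n q := pullback.fst _ _
  let U : {I : Fin q → Fin n // Function.Injective I} → (GrOver n q R).left.Opens := fun I =>
    p ⁻¹ᵁ (inc (⟨I⟩ : Idx.{u} n q)).opensRange
  let J : Idx.{u} n q := ⟨I⟩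
  let d := q * (n - q)
  let σ : ULift.{u} (Fin d) ≃ Coord J := Equiv.ulift.trans (Fintype.equivFinOfCardEq (card_coord J)).symm
  let a : Spec (CommRingCat.of (MvPolynomial (ULift.{u} (Fin d)) (ULift.{u} ℤ))) ≅ chart J :=
    { hom := Spec.map (CommRingCat.ofHom (MvPolynomial.renameEquiv (ULift.{u} ℤ) σ).symm.toRingEquiv.toRingHom)
      inv := Spec.map (CommRingCat.ofHom (MvPolynomial.renameEquiv (ULift.{u} ℤ) σ).toRingEquiv.toRingHom)
      hom_inv_id := by
        rw [← Spec.map_comp, ← CommRingCat.ofHom_comp, ← Spec.map_id]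
        congr 1; ext1; exact RingHom.ext fun x => (MvPolynomial.renameEquiv (ULift.{u} ℤ) σ).symm_apply_apply x
      inv_hom_id := by
        rw [← Spec.map_comp, ← CommRingCat.ofHom_comp, ← Spec.map_id]
        congr 1; ext1; exact RingHom.ext fun x => (MvPolynomial.renameEquiv (ULift.{u} ℤ) σ).apply_symm_apply x }
  let A := 𝔸(ULift.{u} (Fin d); Spec (CommRingCat.of R))
  let g : A ⟶ (GrOver n q R).left := pullback.lift (AffineSpace.toSpecMvPoly _ _ ≫ a.hom ≫ inc J)
    (A ↘ Spec (CommRingCat.of R)) (specULiftZIsTerminal.hom_ext _ _)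
  have hg1 : g ≫ p = AffineSpace.toSpecMvPoly _ _ ≫ a.hom ≫ inc J := pullback.lift_fst _ _ _
  have hg2 : g ≫ (GrOver n q R).hom = A ↘ Spec (CommRingCat.of R) := pullback.lift_snd _ _ _
  have hr : Set.range ((U I).ι ≫ p) ⊆ Set.range (inc J) := by
    rintro _ ⟨y, rfl⟩
    exact y.2
  haveI : IsIso a.hom := a.isIso_hom
  let l := IsOpenImmersion.lift (inc J) ((U I).ι ≫ p) hr
  have hl : l ≫ inc J = (U I).ι ≫ p := IsOpenImmersion.lift_fac _ _ _
  let w : (U I : Scheme.{u}) ⟶ A := pullback.lift ((U I).ι ≫ (GrOver n q R).hom) (l ≫ a.inv) (terminal.hom_ext _ _)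
  have hw1 : w ≫ (A ↘ Spec (CommRingCat.of R)) = (U I).ι ≫ (GrOver n q R).hom := pullback.lift_fst _ _ _
  have hw2 : w ≫ AffineSpace.toSpecMvPoly _ _ = l ≫ a.inv := pullback.lift_snd _ _ _
  have hgr : Set.range g ⊆ Set.range (U I).ι := by
    rintro _ ⟨y, rfl⟩
    rw [Scheme.Opens.range_ι]
    exact ⟨(AffineSpace.toSpecMvPoly _ _ ≫ a.hom) y, (congrArg (fun f : A ⟶ Gr.{u} n q => f y) hg1).symm⟩
  let g' := IsOpenImmersion.lift (U I).ι g hgr
  have hg' : g' ≫ (U I).ι = g := IsOpenImmersion.lift_fac _ _ _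
  have h1 : w ≫ g' = 𝟙 _ := by
    rw [← cancel_mono (U I).ι, Category.assoc, hg', Category.id_comp]
    refine pullback.hom_ext ?_ ?_
    · show (w ≫ g) ≫ p = (U I).ι ≫ p
      rw [Category.assoc, hg1, reassoc_of% hw2, a.inv_hom_id_assoc, hl]
    · show (w ≫ g) ≫ (GrOver n q R).hom = (U I).ι ≫ (GrOver n q R).hom
      rw [Category.assoc, hg2, hw1]
  have h2 : g' ≫ w = 𝟙 _ := by
    refine pullback.hom_ext ?_ ?_
    · show (g' ≫ w) ≫ (A ↘ Spec (CommRingCat.of R)) = 𝟙 _ ≫ (A ↘ Spec (CommRingCat.of R))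
      rw [Category.assoc, hw1, ← Category.assoc, hg', hg2, Category.id_comp]
    · show (g' ≫ w) ≫ AffineSpace.toSpecMvPoly _ _ = 𝟙 _ ≫ AffineSpace.toSpecMvPoly _ _
      rw [Category.assoc, hw2, ← cancel_mono a.hom, ← cancel_mono (inc J)]
      simp only [Category.assoc, Category.id_comp, a.inv_hom_id_assoc, hl]
      rw [← Category.assoc, hg', hg1]
  exact ⟨Over.isoMk ⟨w, g', h1, h2⟩ hw1⟩

theorem irreducible_GrOver (n q : ℕ) (h : q ≤ n) (K : Type u) [Field K] :
    IrreducibleSpace (GrOver n q K).left := by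
  let p : (GrOver n q K).left ⟶ Gr.{u} n q := pullback.fst _ _
  let U := grU n q K
  have hU : ⨆ I, U I = ⊤ := top_le_iff.1 fun x _ => by
    obtain ⟨⟨I⟩, y, hy⟩ := exists_mem_range_inc (p x)
    exact Opens.mem_iSup.2 ⟨I, y, hy⟩
  have hU' := nonempty_grU_iso (n := n) (q := q) K
  let d := q * (n - q)
  haveI : IrreducibleSpace ↥(Spec (CommRingCat.of (MvPolynomial (ULift.{u} (Fin d)) K))) :=
    inferInstanceAs (IrreducibleSpace (PrimeSpectrum (MvPolynomial (ULift.{u} (Fin d)) K)))
  have hirr : ∀ I, IsIrreducible (U I : Set (GrOver n q K).left) := fun I => by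
    obtain ⟨e⟩ := hU' I
    haveI : IsIso e.hom.left := (inferInstance : IsIso ((Over.forget _).map e.hom))
    let φ := asIso e.hom.left ≪≫ AffineSpace.SpecIso (ULift.{u} (Fin d)) (CommRingCat.of K)
    haveI : IrreducibleSpace ↥(U I : Scheme.{u}) :=
      { toPreirreducibleSpace := φ.inv.homeomorph.surjective.preirreducibleSpace φ.inv.homeomorph.continuous
        toNonempty := ⟨φ.inv.homeomorph (Classical.arbitrary _)⟩ }
    have hr : Set.range (U I).ι = (U I : Set (GrOver n q K).left) := (U I).range_ι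
    rw [← hr, ← Set.image_univ]
    exact (IrreducibleSpace.isIrreducible_univ _).image _ (U I).ι.continuous.continuousOn
  have hmeet : ∀ I J, ((U I : Set (GrOver n q K).left) ∩ U J).Nonempty := fun I J => by
    obtain ⟨g, hI, hJ⟩ := exists_common_point.{u} K (⟨I⟩ : Idx.{u} n q) ⟨J⟩
    let s : Spec (CommRingCat.of K) ⟶ (GrOver n q K).left := pullback.lift g (𝟙 _) (specULiftZIsTerminal.hom_ext _ _)
    have hs : s ≫ p = g := pullback.lift_fst _ _ _
    let x : Spec (CommRingCat.of K) := Classical.arbitrary (PrimeSpectrum K)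
    have hx : p (s x) = g x := congr($hs x)
    exact ⟨s x, show p (s x) ∈ Set.range (inc _) from hx ▸ hI ⟨x, rfl⟩, show p (s x) ∈ Set.range (inc _) from hx ▸ hJ ⟨x, rfl⟩⟩
  let I₀ : {I : Fin q → Fin n // Function.Injective I} := ⟨Fin.castLE h, Fin.castLE_injective h⟩
  have hcl : closure (U I₀ : Set (GrOver n q K).left) = Set.univ := Set.eq_univ_of_forall fun x => by
    obtain ⟨J, hJ⟩ := Opens.mem_iSup.1 (show x ∈ ⨆ I, U I from hU ▸ trivial)
    exact closure_mono Set.inter_subset_right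
      (subset_closure_inter_of_isPreirreducible_of_isOpen (hirr J).2 (U I₀).2 (hmeet J I₀) hJ)
  exact { isPreirreducible_univ := hcl ▸ (hirr I₀).2.closure
          toNonempty := ⟨(hirr I₀).1.choose⟩ }

end Groth.Agent.Flag22
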