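import Groth.Agent.Flag22.GrAbs
import Groth.Agent.GrassLib.MapOfEpi
import Groth.Agent.GrassLib.QuotFun

/-!
# Grassmannians of locally free modules: smooth, proper, surjective, irreducible over irreducible bases
-/

set_option autoImplicit false
set_option linter.style.haveILetI false
set_option linter.unusedSectionVars false
set_option backward.isDefEq.respectTransparency.types false

universe u

open CategoryTheory CategoryTheory.Limits AlgebraicGeometry Opposite TopologicalSpace
open Groth.Agent.Coherent Groth.Agent.PicLib Groth.Agent.GrassLib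

namespace Groth.Agent.Flag22

/-- smooth of relative dimension `d`, proper, surjective, preserving irreducibility -/
structure Good {X Y : Scheme.{u}} (f : X ⟶ Y) (d : ℕ) : Prop where
  smooth : SmoothOfRelativeDimension d f
  proper : IsProper f
  surj : Surjective f
  irred : IrreducibleSpace Y → IrreducibleSpace X

theorem Good.comp {X Y Z : Scheme.{u}} {f : X ⟶ Y} {g : Y ⟶ Z} {a b : ℕ} (hf : Good f a) (hg : Good g b) :
    Good (f ≫ g) (a + b) := by
  haveI := hf.smooth; haveI := hg.smooth; haveI := hf.proper; haveI := hg.proper; haveI := hf.surj; haveI := hg.surj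
  exact ⟨inferInstance, inferInstance, inferInstance, fun h => hf.irred (hg.irred h)⟩

theorem Good.of_isIso {X Y : Scheme.{u}} (f : X ⟶ Y) [IsIso f] : Good f 0 :=
  ⟨inferInstance, inferInstance, inferInstance, fun _ =>
    { toPreirreducibleSpace := f.homeomorph.symm.surjective.preirreducibleSpace f.homeomorph.symm.continuous
      toNonempty := ⟨f.homeomorph.symm (Classical.arbitrary _)⟩ }⟩

/-- a Grassmannian of an isomorphic module -/
theorem isGrass_of_iso {X G : Scheme.{u}} {π : G ⟶ X} {E E' : X.Modules} {e : ℕ} {Q : G.Modules}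
    {q : (Scheme.Modules.pullback π).obj E ⟶ Q} (hG : Grass.IsGrass π E e Q q) (v : E' ≅ E) :
    Grass.IsGrass π E' e Q ((Scheme.Modules.pullback π).map v.hom ≫ q) := by
  haveI := hG.epi
  refine ⟨hG.rank, epi_comp _ _, fun T g L hL s hs => ?_⟩
  haveI := hs
  obtain ⟨h, ⟨hg, i, hi⟩, hu⟩ := hG.univ T g L hL ((Scheme.Modules.pullback g).map v.inv ≫ s) (epi_comp _ _)
  refine ⟨h, ⟨hg, i, ?_⟩, fun h' ⟨hg', i', hi'⟩ => hu h' ⟨hg', i', ?_⟩⟩
  · rw [quotBC_map, Category.assoc, hi, ← Category.assoc, ← Functor.map_comp, v.hom_inv_id,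
      CategoryTheory.Functor.map_id, Category.id_comp]
  · rw [← hi', quotBC_map]
    simp only [Category.assoc]
    rw [← Functor.map_comp_assoc, v.inv_hom_id, CategoryTheory.Functor.map_id, Category.id_comp]

/-- Grassmannians are unique -/
theorem exists_iso_of_isGrass {X G G' : Scheme.{u}} {π : G ⟶ X} {π' : G' ⟶ X} {E : X.Modules} {e : ℕ}
    {Q : G.Modules} {q : (Scheme.Modules.pullback π).obj E ⟶ Q} {Q' : G'.Modules}
    {q' : (Scheme.Modules.pullback π').obj E ⟶ Q'} (hG : Grass.IsGrass π E e Q q) (hG' : Grass.IsGrass π' E e Q' q') :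
    ∃ i : G ≅ G', i.hom ≫ π' = π := by
  obtain ⟨f, ⟨hf, ef, hef⟩, -⟩ := hG'.univ G π Q hG.rank q hG.epi
  obtain ⟨g, ⟨hg, eg, heg⟩, -⟩ := hG.univ G' π' Q' hG'.rank q' hG'.epi
  have key : ∀ {A B : Scheme.{u}} {a : A ⟶ X} {b : B ⟶ X} {QA : A.Modules} {qA : (Scheme.Modules.pullback a).obj E ⟶ QA}
      {QB : B.Modules} {qB : (Scheme.Modules.pullback b).obj E ⟶ QB} (_ : Grass.IsGrass a E e QA qA)
      (x : A ⟶ B) (y : B ⟶ A) (hx : x ≫ b = a) (hy : y ≫ a = b)
      (ex : (Scheme.Modules.pullback x).obj QB ≅ QA) (ey : (Scheme.Modules.pullback y).obj QA ≅ QB),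
      Grass.quotBC hx qB ≫ ex.hom = qA → Grass.quotBC hy qA ≫ ey.hom = qB → x ≫ y = 𝟙 A := by
    intro A B a b QA qA QB qB hA x y hx hy ex ey hex hey
    refine (hA.univ A a QA hA.rank qA hA.epi).unique
      ⟨by rw [Category.assoc, hy, hx], ((Scheme.Modules.pullbackComp x y).app QA).symm ≪≫
        (Scheme.Modules.pullback x).mapIso ey ≪≫ ex, ?_⟩
      ⟨Category.id_comp a, (Scheme.Modules.pullbackId A).app QA, QElt.quotBC_id qA _⟩
    simp only [Iso.trans_hom, Iso.symm_hom, Iso.app_inv, Functor.mapIso_hom]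
    rw [← Category.assoc (Grass.quotBC _ qA), quotBC_comp qA hy hx, ← Category.assoc (Grass.quotBC hx _),
      ← quotBC_comp_map, hey, hex]
  exact ⟨⟨f, g, key hG f g hf hg ef eg hef heg, key hG' g f hg hf eg ef heg hef⟩, hf⟩

/-- the Grassmannian of a free module as a fibre product -/
theorem exists_isGrass_free_explicit (X : Scheme.{u}) (n e : ℕ) :
    ∃ (Q : (pullback (specULiftZIsTerminal.from (Gr.{u} n e)) (specULiftZIsTerminal.from X)).Modules)
      (q : (Scheme.Modules.pullback (pullback.snd _ _)).obj (freeMod X (ULift.{u} (Fin n))) ⟶ Q),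
      Grass.IsGrass (pullback.snd _ _) (freeMod X (ULift.{u} (Fin n))) e Q q := by
  let a := specULiftZIsTerminal.from (Gr.{u} n e)
  let b := specULiftZIsTerminal.from X
  let p := pullback.fst a b
  let π := pullback.snd a b
  let D := (univ n e).pull p
  refine ⟨D.L, qOf π D.t, D.isFinLocFreeOfRank, epi_qOf π D, fun T g L hL s hs => ?_⟩
  haveI := hs
  haveI := epi_valOf g s
  let Ds : Datum n e T := Datum.ofEpi hL (valOf g s)
  have hkey : ∀ (h : T ⟶ pullback a b) (hg : h ≫ π = g) (i : (Scheme.Modules.pullback h).obj D.L ≅ L),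
      Grass.quotBC hg (qOf π D.t) ≫ i.hom = s ↔ ∀ j, i.hom.app ⊤ ((D.pull h).t j) = Ds.t j := by
    intro h hg i
    have h1 : ∀ j : ULift.{u} (Fin n), (Grass.quotBC hg (qOf π D.t) ≫ i.hom).app (g ⁻¹ᵁ ⊤)
        (pullSec g (unitVal (freeInj j) ⊤)) = i.hom.app ⊤ ((D.pull h).t j.down) := fun j => by
      show i.hom.app _ ((Grass.quotBC hg (qOf π D.t)).app _ _) = _
      rw [quotBC_app_pullSec, qOf_app]
      rfl
    refine ⟨fun h2 j => ?_, fun h2 => hom_ext_free g _ _ fun j => ?_⟩
    · rw [← h1 ⟨j⟩, h2]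
      rfl
    · rw [h1, h2]
      rfl
  obtain ⟨g₀, hg₀, hg₀'⟩ := existsUnique_hom Ds
  let h₀ : T ⟶ pullback a b := pullback.lift g₀ g (specULiftZIsTerminal.hom_ext _ _)
  have hD : ∀ h : T ⟶ pullback a b, (D.pull h).ker = ((univ n e).pull (h ≫ p)).ker := fun h =>
    (Datum.pull_comp_ker (univ n e) p h).symm
  obtain ⟨i, hi⟩ := (D.pull h₀).exists_iso Ds (by rw [hD, show h₀ ≫ p = g₀ from pullback.lift_fst _ _ _, hg₀])
  refine ⟨h₀, ⟨pullback.lift_snd _ _ _, i, (hkey h₀ _ i).2 hi⟩, ?_⟩
  rintro h ⟨hg, i', hi'⟩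
  refine pullback.hom_ext ?_ (hg.trans (pullback.lift_snd _ _ _).symm)
  rw [pullback.lift_fst]
  refine hg₀' _ ?_
  show ((univ n e).pull (h ≫ p)).ker = Ds.ker
  rw [← hD]
  exact (D.pull h).ker_eq_of_iso Ds i' ((hkey h hg i').1 hi')

variable {X G : Scheme.{u}} {π : G ⟶ X} {E : X.Modules} {N e : ℕ} {Q : G.Modules}
  {q : (Scheme.Modules.pullback π).obj E ⟶ Q}

/-- over an open where the module is free the Grassmannian is a fibre product -/
theorem exists_local_iso (hE : FlatMod.IsFinLocFreeOfRank N E) (hG : Grass.IsGrass π E e Q q) (x : X) :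
    ∃ (U : X.Opens) (i : (π ⁻¹ᵁ U).toScheme ≅
      pullback (specULiftZIsTerminal.from (Gr.{u} N e)) (specULiftZIsTerminal.from U.toScheme)),
      x ∈ U ∧ i.hom ≫ pullback.snd _ _ = π ∣_ U := by
  obtain ⟨U, hx, ⟨f⟩⟩ := hE x
  obtain ⟨Qf, qf, hf⟩ := exists_isGrass_free_explicit U.toScheme N e
  obtain ⟨i, hi⟩ := exists_iso_of_isGrass (PBundle.isGrass_restrict hG U)
    (isGrass_of_iso hf (((Scheme.Modules.restrictFunctorIsoPullback U.ι).app E).symm ≪≫ f ≪≫
      (Props12.freeModIso U.toScheme N).symm))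
  exact ⟨U, i, hx, hi⟩

/-- Grassmannians of locally free modules -/
theorem good_of_isGrass (hE : FlatMod.IsFinLocFreeOfRank N E) (he : e ≤ N) (hG : Grass.IsGrass π E e Q q) :
    Good π (e * (N - e)) := by
  haveI hprop : IsProper π := PBundle.isProper_of_isGrass_of_rank hE he hG
  haveI := smooth_Gr.{u} N e
  haveI := surjective_Gr.{u} he
  haveI := smoothOfRelativeDimension_isStableUnderBaseChange (n := e * (N - e))
  choose U i hx hi using exists_local_iso hE hG
  have hcov : ⨆ x, U x = ⊤ := eq_top_iff.2 fun x _ => Opens.mem_iSup.2 ⟨x, hx x⟩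
  haveI hsm : SmoothOfRelativeDimension (e * (N - e)) π :=
    IsZariskiLocalAtTarget.of_iSup_eq_top (P := @SmoothOfRelativeDimension (e * (N - e))) U hcov fun x => by
      rw [← hi x, MorphismProperty.cancel_left_of_respectsIso (@SmoothOfRelativeDimension (e * (N - e)))]
      exact MorphismProperty.pullback_snd (P := @SmoothOfRelativeDimension (e * (N - e))) _ _ inferInstance
  haveI hsurj : Surjective π :=
    IsZariskiLocalAtTarget.of_iSup_eq_top (P := @Surjective) U hcov fun x => by
      rw [← hi x]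
      infer_instance
  refine ⟨hsm, hprop, hsurj, fun hX => ?_⟩
  have hfib : ∀ x : X, IsPreirreducible (π ⁻¹' {x}) := fun x => by
    let a := specULiftZIsTerminal.from (Gr.{u} N e)
    let b := specULiftZIsTerminal.from (U x).toScheme
    let y : (U x).toScheme := ⟨x, hx x⟩
    let K := (U x).toScheme.residueField y
    let c := (pullback.snd a b).fiber y
    let φ : c ≅ (GrOver N e K).left :=
      pullbackLeftPullbackSndIso a b ((U x).toScheme.fromSpecResidueField y) ≪≫
        pullback.congrHom rfl (specULiftZIsTerminal.hom_ext _ (specULiftZIsTerminal.from _))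
    haveI := irreducible_GrOver.{u} N e he K
    haveI : PreirreducibleSpace c := φ.inv.homeomorph.surjective.preirreducibleSpace φ.inv.homeomorph.continuous
    let j : (pullback.snd a b).fiber y ⟶ G := (pullback.snd a b).fiberι y ≫ (i x).inv ≫ (π ⁻¹ᵁ U x).ι
    have hj : Set.range j = π ⁻¹' {x} := by
      have hπ : ∀ w, π ((π ⁻¹ᵁ U x).ι ((i x).inv w)) = (U x).ι (pullback.snd a b w) := fun w => by
        have h1 : (i x).inv ≫ (π ⁻¹ᵁ U x).ι ≫ π = pullback.snd a b ≫ (U x).ι := by
          rw [← morphismRestrict_ι, ← hi x, Category.assoc, Iso.inv_hom_id_assoc]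
        exact congr($h1 w)
      ext g
      constructor
      · rintro ⟨w, rfl⟩
        show π _ = x
        exact (hπ _).trans (congrArg (fun v => (U x).ι v)
          (((pullback.snd a b).range_fiberι y).le ⟨w, rfl⟩ : pullback.snd a b ((pullback.snd a b).fiberι y w) = y))
      · intro hg
        have hgU : g ∈ π ⁻¹ᵁ U x := show π g ∈ U x from (Set.mem_singleton_iff.1 hg).symm ▸ hx x
        have hw : (i x).inv ((i x).hom ⟨g, hgU⟩) = ⟨g, hgU⟩ := congr($((i x).hom_inv_id) (⟨g, hgU⟩ : (π ⁻¹ᵁ U x).toScheme))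
        have hy : pullback.snd a b ((i x).hom ⟨g, hgU⟩) = y := by
          refine (U x).ι.injective ?_
          have := hπ ((i x).hom ⟨g, hgU⟩)
          rw [hw] at this
          exact this.symm.trans hg
        obtain ⟨w, hw'⟩ := ((pullback.snd a b).range_fiberι y).ge hy
        exact ⟨w, show (π ⁻¹ᵁ U x).ι ((i x).inv ((pullback.snd a b).fiberι y w)) = g by rw [hw', hw]; rfl⟩
    rw [← hj, ← Set.image_univ]
    exact (PreirreducibleSpace.isPreirreducible_univ).image _ j.continuous.continuousOn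
  haveI : Smooth π := SmoothOfRelativeDimension.smooth (e * (N - e)) π
  have h := (PreirreducibleSpace.isPreirreducible_univ (X := X)).preimage_of_isPreirreducible_fiber π π.isOpenMap hfib
  exact { isPreirreducible_univ := by simpa using h
          toNonempty := ⟨(Scheme.Hom.surjective π (Classical.arbitrary X)).choose⟩ }

end Groth.Agent.Flag22
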