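import Groth.Agent.Flag22.GrassProps
import Groth.Agent.GrassLib.GrassExists
import Groth.Agent.Coherent.CohBC.HomSheaf
import Groth.Agent.S19663

/-!
# Flag schemes as towers of Grassmannians
-/

set_option autoImplicit false
set_option linter.style.haveILetI false
set_option linter.unusedSectionVars false
set_option backward.isDefEq.respectTransparency.types false

universe u

open CategoryTheory CategoryTheory.Limits AlgebraicGeometry
open Groth.Agent.GrassLib

namespace Groth.Agent.Flag22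

attribute [local instance] CategoryTheory.Functor.PreservesEpimorphisms.preserves

variable {X : Scheme.{u}} {E : X.Modules}

/-- the quotient `q` pulls back to the quotient `q'` along `c`, a morphism over `X` -/
def Compat {G G' : Scheme.{u}} {π : G ⟶ X} {π' : G' ⟶ X} {Q : G.Modules} {Q' : G'.Modules} (c : G' ⟶ G)
    (q : (Scheme.Modules.pullback π).obj E ⟶ Q) (q' : (Scheme.Modules.pullback π').obj E ⟶ Q') : Prop :=
  ∃ (hc : c ≫ π = π') (e : (Scheme.Modules.pullback c).obj Q ≅ Q'), Grass.quotBC hc q ≫ e.hom = q'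

theorem Compat.id {G : Scheme.{u}} {π : G ⟶ X} {Q : G.Modules} (q : (Scheme.Modules.pullback π).obj E ⟶ Q) :
    Compat (𝟙 G) q q :=
  ⟨Category.id_comp π, (Scheme.Modules.pullbackId G).app Q, QElt.quotBC_id q _⟩

theorem Compat.comp {A B C : Scheme.{u}} {πA : A ⟶ X} {πB : B ⟶ X} {πC : C ⟶ X} {QA : A.Modules} {QB : B.Modules}
    {QC : C.Modules} {qA : (Scheme.Modules.pullback πA).obj E ⟶ QA} {qB : (Scheme.Modules.pullback πB).obj E ⟶ QB}
    {qC : (Scheme.Modules.pullback πC).obj E ⟶ QC} {a : A ⟶ B} {b : B ⟶ C}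
    (ha : Compat a qB qA) (hb : Compat b qC qB) : Compat (a ≫ b) qC qA := by
  obtain ⟨hx, ex, hex⟩ := ha
  obtain ⟨hy, ey, hey⟩ := hb
  refine ⟨by rw [Category.assoc, hy, hx], ((Scheme.Modules.pullbackComp a b).app QC).symm ≪≫
    (Scheme.Modules.pullback a).mapIso ey ≪≫ ex, ?_⟩
  simp only [Iso.trans_hom, Iso.symm_hom, Iso.app_inv, Functor.mapIso_hom]
  rw [← Category.assoc (Grass.quotBC _ qC), quotBC_comp qC hy hx, ← Category.assoc (Grass.quotBC hx _),
    ← quotBC_comp_map, hey, hex]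

variable {m : ℕ} {n : Fin m → ℕ} {F : Scheme.{u}} {π : F ⟶ X} {Q : Fin m → F.Modules}
  {q : ∀ i, (Scheme.Modules.pullback π).obj E ⟶ Q i}

/-- morphisms to a flag scheme are determined by the pulled back quotients -/
theorem flag_hom_ext (hF : Grass.IsFlag π E n Q q) {T : Scheme.{u}} {g : T ⟶ X} {L : Fin m → T.Modules}
    (hL : ∀ i, FlatMod.IsFinLocFreeOfRank (n i) (L i)) {s : ∀ i, (Scheme.Modules.pullback g).obj E ⟶ L i}
    (hs : ∀ i, Epi (s i)) (hns : ∀ i j, i ≤ j → ∃ t : L i ⟶ L j, s i ≫ t = s j) {h h' : T ⟶ F}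
    (hh : h ≫ π = g) (c : ∀ i, Compat h (q i) (s i)) (hh' : h' ≫ π = g) (c' : ∀ i, Compat h' (q i) (s i)) :
    h = h' := by
  choose _ e he using c
  choose _ e' he' using c'
  exact (hF.univ T g L hL s hs hns).unique ⟨hh, e, he⟩ ⟨hh', e', he'⟩

/-- the empty flag -/
theorem isFlag_zero (X : Scheme.{u}) (E : X.Modules) (n : Fin 0 → ℕ) :
    Grass.IsFlag (𝟙 X) E n (fun i => i.elim0) (fun i => i.elim0) where
  rank i := i.elim0
  epi i := i.elim0
  nested i := i.elim0
  univ T g L hL s hs hn :=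
    ⟨g, ⟨Category.comp_id g, fun i => i.elim0, fun i => i.elim0⟩, fun h ⟨hg, _⟩ => (Category.comp_id h).symm.trans hg⟩

/-- one-step flags are Grassmannians -/
theorem isGrass_of_isFlag_one {n : Fin 1 → ℕ} {Q : Fin 1 → F.Modules}
    {q : ∀ i, (Scheme.Modules.pullback π).obj E ⟶ Q i} (hF : Grass.IsFlag π E n Q q) :
    Grass.IsGrass π E (n 0) (Q 0) (q 0) where
  rank := hF.rank 0
  epi := hF.epi 0
  univ T g L hL s hs := by
    obtain ⟨h, ⟨hg, e, he⟩, huniq⟩ := hF.univ T g (fun _ => L) (fun i => by rw [Subsingleton.elim i 0]; exact hL)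
      (fun _ => s) (fun _ => hs) (fun _ _ _ => ⟨𝟙 _, Category.comp_id _⟩)
    refine ⟨h, ⟨hg, e 0, he 0⟩, fun h' ⟨hg', e', he'⟩ => huniq h' ⟨hg', fun i => Fin.cases
      (motive := fun i => (Scheme.Modules.pullback h').obj (Q i) ≅ L) e' (fun j => j.elim0) i, fun i => ?_⟩⟩
    exact Fin.cases (by simpa using he') (fun j => j.elim0) i

/-- a Grassmannian is a one-step flag -/
theorem isFlag_one_of_isGrass {n : Fin 1 → ℕ} {Q₁ : F.Modules}
    {q₁ : (Scheme.Modules.pullback π).obj E ⟶ Q₁} (hG : Grass.IsGrass π E (n 0) Q₁ q₁) :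
    Grass.IsFlag π E n (fun _ => Q₁) (fun _ => q₁) where
  rank i := by rw [Subsingleton.elim i 0]; exact hG.rank
  epi _ := hG.epi
  nested _ _ _ := ⟨𝟙 _, Category.comp_id _⟩
  univ T g L hL s hs _ := by
    obtain ⟨h, ⟨hg, e, he⟩, huniq⟩ := hG.univ T g (L 0) (hL 0) (s 0) (hs 0)
    refine ⟨h, ⟨hg, fun i => Fin.cases (motive := fun i => (Scheme.Modules.pullback h).obj Q₁ ≅ L i) e
      (fun j => j.elim0) i, fun i => ?_⟩, fun h' ⟨hg', e', he'⟩ => huniq h' ⟨hg', e' 0, he' 0⟩⟩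
    exact Fin.cases (by simpa using he) (fun j => j.elim0) i

/-- a Grassmannian of the last quotient of a flag is the next flag -/
theorem isFlag_of_isGrass {n : Fin (m + 2) → ℕ} {Q : Fin (m + 1) → F.Modules}
    {q : ∀ i, (Scheme.Modules.pullback π).obj E ⟶ Q i}
    (hF : Grass.IsFlag π E (fun i => n (Fin.castSucc i)) Q q) {G : Scheme.{u}} {p : G ⟶ F} {QG : G.Modules}
    {qG : (Scheme.Modules.pullback p).obj (Q (Fin.last m)) ⟶ QG}
    (hG : Grass.IsGrass p (Q (Fin.last m)) (n (Fin.last (m + 1))) QG qG) :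
    ∃ (Q' : Fin (m + 2) → G.Modules) (q' : ∀ i, (Scheme.Modules.pullback (p ≫ π)).obj E ⟶ Q' i),
      Grass.IsFlag (p ≫ π) E n Q' q' := by
  let π' : G ⟶ X := p ≫ π
  have hp : p ≫ π = π' := rfl
  let Q' : Fin (m + 2) → G.Modules :=
    Fin.lastCases (motive := fun _ => G.Modules) QG (fun i => (Scheme.Modules.pullback p).obj (Q i))
  let ι : ∀ i, Q' (Fin.castSucc i) ≅ (Scheme.Modules.pullback p).obj (Q i) :=
    fun i => eqToIso (Fin.lastCases_castSucc (motive := fun _ => G.Modules) i)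
  let ιl : Q' (Fin.last (m + 1)) ≅ QG := eqToIso (Fin.lastCases_last (motive := fun _ => G.Modules))
  let q' : ∀ i, (Scheme.Modules.pullback π').obj E ⟶ Q' i :=
    Fin.lastCases (motive := fun i => (Scheme.Modules.pullback π').obj E ⟶ Q' i)
      (Grass.quotBC hp (q (Fin.last m)) ≫ qG ≫ ιl.inv) (fun i => Grass.quotBC hp (q i) ≫ (ι i).inv)
  have hc : ∀ i, q' (Fin.castSucc i) = Grass.quotBC hp (q i) ≫ (ι i).inv :=
    fun i => Fin.lastCases_castSucc (motive := fun i => (Scheme.Modules.pullback π').obj E ⟶ Q' i) i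
  have hl : q' (Fin.last (m + 1)) = Grass.quotBC hp (q (Fin.last m)) ≫ qG ≫ ιl.inv :=
    Fin.lastCases_last (motive := fun i => (Scheme.Modules.pullback π').obj E ⟶ Q' i)
  haveI : ∀ i, Epi (Grass.quotBC hp (q i)) := fun i => by
    haveI := hF.epi i
    exact epi_quotBC _ _
  haveI := hG.epi
  refine ⟨Q', q', ⟨fun i => ?_, fun i => ?_, fun i j hij => ?_, fun T g L hL s hs hn => ?_⟩⟩
  · induction i using Fin.lastCases with
    | last => rw [show Q' (Fin.last (m + 1)) = QG from Fin.lastCases_last (motive := fun _ => G.Modules)]; exact hG.rank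
    | cast i =>
      rw [show Q' (Fin.castSucc i) = (Scheme.Modules.pullback p).obj (Q i) from
        Fin.lastCases_castSucc (motive := fun _ => G.Modules) i]
      exact isFinLocFreeOfRank_pullback p (hF.rank i)
  · induction i using Fin.lastCases with
    | last =>
      rw [hl]
      haveI : Epi (qG ≫ ιl.inv) := epi_comp _ _
      exact epi_comp _ _
    | cast i => rw [hc]; exact epi_comp _ _
  · induction i using Fin.lastCases with
    | last =>
      obtain rfl := le_antisymm hij (Fin.le_last j)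
      exact ⟨𝟙 _, Category.comp_id _⟩
    | cast i =>
      induction j using Fin.lastCases with
      | last =>
        obtain ⟨a, ha⟩ := hF.nested i (Fin.last m) (Fin.le_last _)
        refine ⟨(ι i).hom ≫ (Scheme.Modules.pullback p).map a ≫ qG ≫ ιl.inv, ?_⟩
        rw [hc, hl, Category.assoc, Iso.inv_hom_id_assoc, ← Category.assoc (Grass.quotBC _ (q i)),
          ← quotBC_comp_map, ha]
      | cast j =>
        obtain ⟨a, ha⟩ := hF.nested i j (Fin.castSucc_le_castSucc_iff.mp hij)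
        refine ⟨(ι i).hom ≫ (Scheme.Modules.pullback p).map a ≫ (ι j).inv, ?_⟩
        rw [hc, hc, Category.assoc, Iso.inv_hom_id_assoc, ← Category.assoc (Grass.quotBC _ (q i)),
          ← quotBC_comp_map, ha]
  · have hn₀ : ∀ i j : Fin (m + 1), i ≤ j →
        ∃ t : L (Fin.castSucc i) ⟶ L (Fin.castSucc j), s (Fin.castSucc i) ≫ t = s (Fin.castSucc j) :=
      fun i j hij => hn _ _ (Fin.castSucc_le_castSucc_iff.mpr hij)
    obtain ⟨h₀, ⟨hg₀, e₀, he₀⟩, hu₀⟩ := hF.univ T g (fun i => L (Fin.castSucc i)) (fun i => hL _)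
      (fun i => s (Fin.castSucc i)) (fun i => hs _) hn₀
    obtain ⟨t, ht⟩ := hn (Fin.castSucc (Fin.last m)) (Fin.last (m + 1)) (Fin.le_last _)
    let t' : (Scheme.Modules.pullback h₀).obj (Q (Fin.last m)) ⟶ L (Fin.last (m + 1)) :=
      (e₀ (Fin.last m)).hom ≫ t
    have ht' : Grass.quotBC hg₀ (q (Fin.last m)) ≫ t' = s (Fin.last (m + 1)) := by
      rw [← Category.assoc (Grass.quotBC hg₀ _), he₀, ht]
    have het' : Epi t' := by
      haveI := hs (Fin.last (m + 1))
      exact epi_of_epi_fac ht'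
    obtain ⟨h, ⟨hh, e, he⟩, hu⟩ := hG.univ T h₀ (L (Fin.last (m + 1))) (hL _) t' het'
    subst hh
    have hg : h ≫ π' = g := by rw [← hg₀]; exact (Category.assoc _ _ _).symm
    refine ⟨h, ⟨hg, fun i => Fin.lastCases (motive := fun i => (Scheme.Modules.pullback h).obj (Q' i) ≅ L i)
      ((Scheme.Modules.pullback h).mapIso ιl ≪≫ e)
      (fun i => (Scheme.Modules.pullback h).mapIso (ι i) ≪≫ (Scheme.Modules.pullbackComp h p).app (Q i) ≪≫ e₀ i) i,
      fun i => ?_⟩, fun h' ⟨hg', e', he'⟩ => ?_⟩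
    · induction i using Fin.lastCases with
      | last =>
        simp only [Fin.lastCases_last, Iso.trans_hom, Functor.mapIso_hom]
        have hl' : q' (Fin.last (m + 1)) ≫ ιl.hom = Grass.quotBC hp (q (Fin.last m)) ≫ qG := by
          rw [hl]
          simp
        have h1 : Grass.quotBC hg (q' (Fin.last (m + 1))) ≫ (Scheme.Modules.pullback h).map ιl.hom =
            Grass.quotBC hg₀ (q (Fin.last m)) ≫ Grass.quotBC rfl qG := by
          rw [← quotBC_comp_map, hl', Groth.Agent.S19663.quotBC_rfl_comp (q (Fin.last m)) hp hg hg₀ qG]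
        rw [← Category.assoc (Grass.quotBC hg _), h1, Category.assoc (Grass.quotBC hg₀ _), he, ht']
      | cast i =>
        simp only [Fin.lastCases_castSucc, Iso.trans_hom, Functor.mapIso_hom, Iso.app_hom]
        have hc' : q' (Fin.castSucc i) ≫ (ι i).hom = Grass.quotBC hp (q i) := by
          rw [hc, Category.assoc, Iso.inv_hom_id, Category.comp_id]
        have h1 : Grass.quotBC hg (q' (Fin.castSucc i)) ≫ (Scheme.Modules.pullback h).map (ι i).hom =
            Grass.quotBC hg₀ (q i) ≫ (Scheme.Modules.pullbackComp h p).inv.app (Q i) := by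
          rw [← quotBC_comp_map, hc', quotBC_comp (q i) hp hg hg₀]
        rw [← Category.assoc (Grass.quotBC hg _), h1, Category.assoc (Grass.quotBC hg₀ _),
          Iso.inv_hom_id_app_assoc, he₀]
    · have hg'' : (h' ≫ p) ≫ π = g := by rw [Category.assoc]; exact hg'
      have hkey : h' ≫ p = h ≫ p := by
        refine flag_hom_ext hF (fun i => hL (Fin.castSucc i)) (fun i => hs _) hn₀ hg'' (fun i => ?_) hg₀
          (fun i => ⟨hg₀, e₀ i, he₀ i⟩)
        have h1 : Compat h' (q' (Fin.castSucc i)) (s (Fin.castSucc i)) := ⟨hg', _, he' _⟩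
        exact h1.comp ⟨hp, (ι i).symm, (hc i).symm⟩
      refine hu h' ⟨hkey, (Scheme.Modules.pullback h').mapIso ιl.symm ≪≫ e' (Fin.last (m + 1)), ?_⟩
      haveI : Epi (Grass.quotBC hg₀ (q (Fin.last m))) := by
        haveI := hF.epi (Fin.last m)
        exact epi_quotBC _ _
      rw [← cancel_epi (Grass.quotBC hg₀ (q (Fin.last m))), ht', ← he' (Fin.last (m + 1)), hl]
      have h2 : ∀ (a : T ⟶ F) (ha : h' ≫ p = a) (hA : a ≫ π = g),
          Grass.quotBC hA (q (Fin.last m)) ≫ Grass.quotBC ha qG =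
            Grass.quotBC hg' (Grass.quotBC hp (q (Fin.last m)) ≫ qG) := by
        rintro a rfl hA
        exact Groth.Agent.S19663.quotBC_rfl_comp (q (Fin.last m)) hp hg' hA qG
      rw [← Category.assoc, h2 _ hkey hg₀, ← Category.assoc (Grass.quotBC hp _) qG, quotBC_comp_map _ ιl.inv]
      simp

/-- flag schemes exist -/
theorem exists_isFlag (E : X.Modules) (N : ℕ) (hE : FlatMod.IsFinLocFreeOfRank N E) :
    ∀ (m : ℕ) (n : Fin m → ℕ), ∃ (F : Scheme.{u}) (π : F ⟶ X) (Q : Fin m → F.Modules)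
      (q : ∀ i, (Scheme.Modules.pullback π).obj E ⟶ Q i), Grass.IsFlag π E n Q q
  | 0, n => ⟨X, 𝟙 X, _, _, isFlag_zero X E n⟩
  | 1, n => by
    obtain ⟨G, π, Q, q, hG⟩ := exists_isGrass E
      (Coherent.CohBC.isCoh_of_isFinLocFree fun x => ⟨(hE x).choose, N, (hE x).choose_spec⟩) (n 0)
    exact ⟨G, π, _, _, isFlag_one_of_isGrass hG⟩
  | m + 2, n => by
    obtain ⟨F, π, Q, q, hF⟩ := exists_isFlag E N hE (m + 1) (fun i => n (Fin.castSucc i))
    obtain ⟨G, p, QG, qG, hG⟩ := exists_isGrass (Q (Fin.last m))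
      (Coherent.CohBC.isCoh_of_isFinLocFree fun x =>
        ⟨(hF.rank (Fin.last m) x).choose, _, (hF.rank (Fin.last m) x).choose_spec⟩) (n (Fin.last (m + 1)))
    obtain ⟨Q', q', hF'⟩ := isFlag_of_isGrass hF hG
    exact ⟨G, p ≫ π, Q', q', hF'⟩

/-- the last step of a flag scheme -/
theorem exists_step (E : X.Modules) (N : ℕ) (hE : FlatMod.IsFinLocFreeOfRank N E) :
    ∀ (m : ℕ) (n : Fin (m + 1) → ℕ), Antitone n → (∀ i, n i ≤ N) →
    ∀ (F : Scheme.{u}) (π : F ⟶ X) (Q : Fin (m + 1) → F.Modules)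
      (q : ∀ i, (Scheme.Modules.pullback π).obj E ⟶ Q i), Grass.IsFlag π E n Q q →
      ∃ (F₁ : Scheme.{u}) (π₁ : F₁ ⟶ X) (Q₁ : Fin m → F₁.Modules)
        (q₁ : ∀ i, (Scheme.Modules.pullback π₁).obj E ⟶ Q₁ i) (p : F ⟶ F₁),
        Grass.IsFlag π₁ E (fun i => n (Fin.castSucc i)) Q₁ q₁ ∧ p ≫ π₁ = π ∧
        (∀ i, Compat p (q₁ i) (q (Fin.castSucc i))) ∧
        Good p (n (Fin.last m) * ((Fin.cons N n : Fin (m + 2) → ℕ) (Fin.castSucc (Fin.last m)) - n (Fin.last m)))
  | 0, n, _, hN, F, π, Q, q, hF =>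
    ⟨X, 𝟙 X, _, _, π, isFlag_zero X E _, Category.comp_id π, fun i => i.elim0,
      good_of_isGrass hE (hN 0) (isGrass_of_isFlag_one hF)⟩
  | m + 1, n, hn, _, F, π, Q, q, hF => by
    obtain ⟨F₁, π₁, Q₁, q₁, hF₁⟩ := exists_isFlag E N hE (m + 1) (fun i => n (Fin.castSucc i))
    obtain ⟨p, ⟨hp, ε, hε⟩, -⟩ := hF₁.univ F π (fun i => Q (Fin.castSucc i)) (fun i => hF.rank _)
      (fun i => q (Fin.castSucc i)) (fun i => hF.epi _)
      (fun i j hij => hF.nested _ _ (Fin.castSucc_le_castSucc_iff.mpr hij))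
    obtain ⟨t, ht⟩ := hF.nested (Fin.castSucc (Fin.last m)) (Fin.last (m + 1)) (Fin.le_last _)
    refine ⟨F₁, π₁, Q₁, q₁, p, hF₁, hp, fun i => ⟨hp, ε i, hε i⟩, ?_⟩
    exact good_of_isGrass (hF₁.rank (Fin.last m)) (hn (Fin.le_last _))
      (Groth.Agent.S19663.isGrass_of_isFlag hF₁ hF p hp ε hε t ht)

theorem cons_castSucc (N : ℕ) {m : ℕ} (n : Fin (m + 1) → ℕ) (j : Fin m) :
    (Fin.cons N n : Fin (m + 2) → ℕ) (Fin.castSucc (Fin.castSucc j)) =
      (Fin.cons N (fun i => n (Fin.castSucc i)) : Fin (m + 1) → ℕ) (Fin.castSucc j) := by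
  obtain ⟨j, hj⟩ := j
  cases j with
  | zero => rfl
  | succ l => rfl

/-- the relative dimension of the projection to the first `k` steps -/
def relDim (N : ℕ) {m : ℕ} (n : Fin m → ℕ) (k : ℕ) : ℕ :=
  ∑ i : Fin m, if k ≤ (i : ℕ) then n i * ((Fin.cons N n : Fin (m + 1) → ℕ) (Fin.castSucc i) - n i) else 0

/-- projections between flag schemes -/
theorem good_proj (E : X.Modules) (N : ℕ) (hE : FlatMod.IsFinLocFreeOfRank N E) :
    ∀ (m : ℕ) (n : Fin m → ℕ), Antitone n → (∀ i, n i ≤ N) →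
    ∀ (F : Scheme.{u}) (π : F ⟶ X) (Q : Fin m → F.Modules) (q : ∀ i, (Scheme.Modules.pullback π).obj E ⟶ Q i),
      Grass.IsFlag π E n Q q →
    ∀ (k : ℕ) (hk : k ≤ m) (F₀ : Scheme.{u}) (π₀ : F₀ ⟶ X) (Q₀ : Fin k → F₀.Modules)
      (q₀ : ∀ i, (Scheme.Modules.pullback π₀).obj E ⟶ Q₀ i),
      Grass.IsFlag π₀ E (fun i => n (Fin.castLE hk i)) Q₀ q₀ →
    ∀ (p : F ⟶ F₀), p ≫ π₀ = π → (∀ i, Compat p (q₀ i) (q (Fin.castLE hk i))) → Good p (relDim N n k) := by
  intro m
  induction m with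
  | zero =>
    intro n _ _ F π Q q hF k hk F₀ π₀ Q₀ q₀ hF₀ p hp _
    obtain rfl : k = 0 := Nat.le_zero.1 hk
    obtain ⟨r, ⟨hr, -⟩, -⟩ := hF.univ F₀ π₀ (fun i => i.elim0) (fun i => i.elim0) (fun i => i.elim0)
      (fun i => i.elim0) (fun i => i.elim0)
    haveI : IsIso p := ⟨r,
      flag_hom_ext hF hF.rank hF.epi hF.nested (by rw [Category.assoc, hr, hp]) (fun i => i.elim0)
        (Category.id_comp π) (fun i => i.elim0),
      flag_hom_ext hF₀ hF₀.rank hF₀.epi hF₀.nested (by rw [Category.assoc, hp, hr]) (fun i => i.elim0)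
        (Category.id_comp π₀) (fun i => i.elim0)⟩
    have h0 : relDim N n 0 = 0 := by simp [relDim]
    rw [h0]
    exact Good.of_isIso p
  | succ m ih =>
    intro n hn hN F π Q q hF k hk F₀ π₀ Q₀ q₀ hF₀ p hp c
    rcases Nat.lt_or_eq_of_le hk with hlt | rfl
    · have hk' : k ≤ m := Nat.le_of_lt_succ hlt
      obtain ⟨F₁, π₁, Q₁, q₁, p₁, hF₁, hp₁, c₁, hg₁⟩ := exists_step E N hE m n hn hN F π Q q hF
      obtain ⟨p₂, ⟨hp₂, ε, hε⟩, -⟩ := hF₀.univ F₁ π₁ (fun i => Q₁ (Fin.castLE hk' i))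
        (fun i => hF₁.rank (Fin.castLE hk' i)) (fun i => q₁ (Fin.castLE hk' i)) (fun i => hF₁.epi _)
        (fun i j hij => hF₁.nested _ _ ((Fin.castLE_le_castLE_iff hk').mpr hij))
      have c₂ : ∀ i, Compat p₂ (q₀ i) (q₁ (Fin.castLE hk' i)) := fun i => ⟨hp₂, ε i, hε i⟩
      have hg₂ := ih (fun i => n (Fin.castSucc i))
        (fun a b hab => hn (Fin.castSucc_le_castSucc_iff.mpr hab)) (fun i => hN _)
        F₁ π₁ Q₁ q₁ hF₁ k hk' F₀ π₀ Q₀ q₀ hF₀ p₂ hp₂ c₂
      have hpp : p = p₁ ≫ p₂ :=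
        flag_hom_ext hF₀ (fun i => hF.rank (Fin.castLE hk i)) (fun i => hF.epi _)
          (fun i j hij => hF.nested _ _ ((Fin.castLE_le_castLE_iff hk).mpr hij)) hp c
          (by rw [Category.assoc, hp₂, hp₁]) (fun i => (c₁ (Fin.castLE hk' i)).comp (c₂ i))
      have hd : relDim N n k = n (Fin.last m) * ((Fin.cons N n : Fin (m + 2) → ℕ) (Fin.castSucc (Fin.last m)) -
          n (Fin.last m)) + relDim N (fun i => n (Fin.castSucc i)) k := by
        rw [relDim, relDim, Fin.sum_univ_castSucc, add_comm]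
        congr 1
        · simp [hk']
        · exact Finset.sum_congr rfl fun j _ => by rw [cons_castSucc]; rfl
      rw [hpp, hd]
      exact hg₁.comp hg₂
    · obtain ⟨r, ⟨hr, ε, hε⟩, -⟩ := hF.univ F₀ π₀ Q₀ hF₀.rank q₀ hF₀.epi hF₀.nested
      haveI : IsIso p := ⟨r,
        flag_hom_ext hF hF.rank hF.epi hF.nested (by rw [Category.assoc, hr, hp])
          (fun i => (c i).comp ⟨hr, ε i, hε i⟩) (Category.id_comp π) (fun i => Compat.id _),
        flag_hom_ext hF₀ hF₀.rank hF₀.epi hF₀.nested (by rw [Category.assoc, hp, hr])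
          (fun i => Compat.comp (⟨hr, ε i, hε i⟩ : Compat r (q i) (q₀ i)) (c i))
          (Category.id_comp π₀) (fun i => Compat.id _)⟩
      have h0 : relDim N n (m + 1) = 0 :=
        Finset.sum_eq_zero fun i _ => if_neg (by have := i.isLt; omega)
      rw [h0]
      exact Good.of_isIso p

end Groth.Agent.Flag22
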